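import Mathlib.Algebra.Homology.Bifunctor
import Mathlib.Algebra.Homology.HomologicalComplexAbelian
import Mathlib.CategoryTheory.Abelian.GrothendieckAxioms.Colim
import Mathlib.CategoryTheory.Abelian.GrothendieckAxioms.Basic
import Mathlib.Algebra.Homology.ShortComplex.PreservesHomology
import Mathlib.Algebra.Homology.ShortComplex.ExactFunctor

/-!
# Exactness of total complexes of bifunctors (helper2)

Let `F : C₁ ⥤ C₂ ⥤ D` be a bifunctor into an abelian category with exact countable coproducts.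

* `shortExact_of_cofans`: a coproduct of short exact sequences is short exact (AB4).
* `shortExact_map₂`: if `S` is a short complex of cochain complexes in `C₂` such that
  `F(K₁^p, S^q)` is short exact for all `p q`, then `Tot F(K₁, S)` is a short exact sequence of
  complexes.
* `shortExact_map₁`: same in the first variable.
-/

set_option autoImplicit false
open CategoryTheory Limits HomologicalComplex

namespace Groth.Agent.Lib.Helper2.Tot

section Core

variable {D : Type*} [Category D] [Abelian D] {ι : Type*}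

/-- The short complex of `ι`-diagrams attached to a family of short complexes. -/
@[simps]
def famSC (S : ι → ShortComplex D) : ShortComplex (Discrete ι ⥤ D) where
  X₁ := Discrete.functor (fun j => (S j).X₁)
  X₂ := Discrete.functor (fun j => (S j).X₂)
  X₃ := Discrete.functor (fun j => (S j).X₃)
  f := Discrete.natTrans (fun j => (S j.as).f)
  g := Discrete.natTrans (fun j => (S j.as).g)
  zero := by ext ⟨j⟩; simp

lemma famSC_exact (S : ι → ShortComplex D) (h : ∀ i, (S i).Exact) : (famSC S).Exact := by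
  rw [ShortComplex.exact_iff_isZero_homology, Functor.isZero_iff]
  rintro ⟨j⟩
  let ev := (evaluation (Discrete ι) D).obj ⟨j⟩
  have e : ((famSC S).map ev).homology ≅ ev.obj (famSC S).homology := (famSC S).mapHomologyIso ev
  have hz : IsZero ((famSC S).map ev).homology := by
    have h' : ((famSC S).map ev).Exact := h j
    exact (ShortComplex.exact_iff_isZero_homology _).1 h'
  exact IsZero.of_iso hz e.symm

variable [HasColimitsOfShape (Discrete ι) D] [HasExactColimitsOfShape (Discrete ι) D]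

/-- A coproduct of short exact sequences is short exact when coproducts are exact. -/
theorem shortExact_of_cofans (S : ι → ShortComplex D) (hS : ∀ i, (S i).ShortExact)
    {c₁ : Cofan (fun i => (S i).X₁)} (hc₁ : IsColimit c₁)
    {c₂ : Cofan (fun i => (S i).X₂)} (hc₂ : IsColimit c₂)
    {c₃ : Cofan (fun i => (S i).X₃)} (hc₃ : IsColimit c₃)
    (φ : c₁.pt ⟶ c₂.pt) (ψ : c₂.pt ⟶ c₃.pt)
    (hφ : ∀ i, c₁.inj i ≫ φ = (S i).f ≫ c₂.inj i)
    (hψ : ∀ i, c₂.inj i ≫ ψ = (S i).g ≫ c₃.inj i)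
    (w : φ ≫ ψ = 0) : (ShortComplex.mk φ ψ w).ShortExact := by
  have hex := colim.exact_mapShortComplex (S := famSC S)
    (famSC_exact S (fun i => (hS i).exact)) (c₁ := c₁) hc₁ (c₂ := c₂) hc₂ (c₃ := c₃) hc₃ φ ψ
    (fun ⟨i⟩ => hφ i) (fun ⟨i⟩ => hψ i)
  haveI : Mono φ := by
    haveI : ∀ j, Mono ((famSC S).f.app j) := fun ⟨i⟩ => (hS i).mono_f
    haveI : Mono (famSC S).f := NatTrans.mono_of_mono_app _
    exact colim.map_mono' (famSC S).f (c₁ := c₁) hc₁ (c₂ := c₂) hc₂ φ (fun ⟨i⟩ => hφ i)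
  haveI : Epi ψ := by
    haveI : ∀ j, Epi ((famSC S).g.app j) := fun ⟨i⟩ => (hS i).epi_g
    exact colim.map_epi' (famSC S).g c₂ (c₂ := c₃) hc₃ ψ (fun ⟨i⟩ => hψ i)
  exact ShortComplex.ShortExact.mk' hex inferInstance inferInstance

end Core

section Tot

variable {C₁ C₂ D : Type*} [Category C₁] [Category C₂] [Category D]
  [HasZeroMorphisms C₁] [HasZeroMorphisms C₂] [Abelian D]
  (F : C₁ ⥤ C₂ ⥤ D) [F.PreservesZeroMorphisms] [∀ X₁, (F.obj X₁).PreservesZeroMorphisms]
  [∀ (K₁ : CochainComplex C₁ ℤ) (K₂ : CochainComplex C₂ ℤ),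
    HasMapBifunctor K₁ K₂ F (ComplexShape.up ℤ)]
  [HasCountableCoproducts D] [CountableAB4 D]

/-- The index set of the summands of the total complex in degree `n`. -/
abbrev Idx (n : ℤ) : Type :=
  (ComplexShape.π (ComplexShape.up ℤ) (ComplexShape.up ℤ) (ComplexShape.up ℤ) ⁻¹' {n} : Set (ℤ × ℤ))

instance (n : ℤ) : Countable (Idx n) := by
  unfold Idx
  infer_instance

/-- The colimit cofan exhibiting `Tot F(K₁, K₂)^n` as a coproduct. -/
noncomputable def totCofan (K₁ : CochainComplex C₁ ℤ) (K₂ : CochainComplex C₂ ℤ) (n : ℤ) :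
    Cofan (fun i : Idx n => (F.obj (K₁.X i.1.1)).obj (K₂.X i.1.2)) :=
  GradedObject.cofanMapObj
    (((F.mapBifunctorHomologicalComplex (ComplexShape.up ℤ) (ComplexShape.up ℤ)).obj K₁).obj
      K₂).toGradedObject
    (ComplexShape.π (ComplexShape.up ℤ) (ComplexShape.up ℤ) (ComplexShape.up ℤ)) n

/-- `totCofan` is a colimit cofan. -/
noncomputable def isColimitTotCofan (K₁ : CochainComplex C₁ ℤ) (K₂ : CochainComplex C₂ ℤ)
    (n : ℤ) : IsColimit (totCofan F K₁ K₂ n) :=
  GradedObject.isColimitCofanMapObj _ _ _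

omit [HasCountableCoproducts D] [CountableAB4 D] in
lemma totCofan_inj (K₁ : CochainComplex C₁ ℤ) (K₂ : CochainComplex C₂ ℤ) (n : ℤ) (p q : ℤ)
    (h : ComplexShape.π (ComplexShape.up ℤ) (ComplexShape.up ℤ) (ComplexShape.up ℤ) (p, q) = n) :
    (totCofan F K₁ K₂ n).inj ⟨(p, q), h⟩ =
      ιMapBifunctor K₁ K₂ F (ComplexShape.up ℤ) p q n h := rfl

instance preservesZeroMorphisms_map₂_obj (K₁ : CochainComplex C₁ ℤ) :
    ((F.map₂CochainComplex).obj K₁).PreservesZeroMorphisms where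
  map_zero K₂ L₂ := by
    ext n
    apply mapBifunctor.hom_ext
    intro p q hpq
    change ιMapBifunctor K₁ K₂ F (ComplexShape.up ℤ) p q n hpq ≫
      (mapBifunctorMap (𝟙 K₁) (0 : K₂ ⟶ L₂) F (ComplexShape.up ℤ)).f n = _
    rw [ι_mapBifunctorMap]
    simp
    exact comp_zero.symm

instance preservesZeroMorphisms_map₂_flip_obj (K₂ : CochainComplex C₂ ℤ) :
    ((F.map₂CochainComplex).flip.obj K₂).PreservesZeroMorphisms where
  map_zero K₁ L₁ := by
    ext n
    apply mapBifunctor.hom_ext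
    intro p q hpq
    change ιMapBifunctor K₁ K₂ F (ComplexShape.up ℤ) p q n hpq ≫
      (mapBifunctorMap (0 : K₁ ⟶ L₁) (𝟙 K₂) F (ComplexShape.up ℤ)).f n = _
    rw [ι_mapBifunctorMap]
    simp
    exact comp_zero.symm

/-- Exactness of the total complex in the second variable. -/
theorem shortExact_map₂ (K₁ : CochainComplex C₁ ℤ) (S : ShortComplex (CochainComplex C₂ ℤ))
    (h : ∀ p q : ℤ, ((S.map (eval C₂ (ComplexShape.up ℤ) q)).map (F.obj (K₁.X p))).ShortExact) :
    (S.map ((F.map₂CochainComplex).obj K₁)).ShortExact := by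
  apply shortExact_of_degreewise_shortExact
  intro n
  refine shortExact_of_cofans (ι := Idx n)
    (fun i => (S.map (eval C₂ (ComplexShape.up ℤ) i.1.2)).map (F.obj (K₁.X i.1.1)))
    (fun i => h _ _) (isColimitTotCofan F K₁ S.X₁ n) (isColimitTotCofan F K₁ S.X₂ n)
    (isColimitTotCofan F K₁ S.X₃ n) _ _ ?_ ?_ _
  · rintro ⟨⟨p, q⟩, hpq⟩
    change ιMapBifunctor K₁ S.X₁ F (ComplexShape.up ℤ) p q n hpq ≫
      (mapBifunctorMap (𝟙 K₁) S.f F (ComplexShape.up ℤ)).f n =
      (F.obj (K₁.X p)).map (S.f.f q) ≫ ιMapBifunctor K₁ S.X₂ F (ComplexShape.up ℤ) p q n hpq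
    rw [ι_mapBifunctorMap]
    simp
  · rintro ⟨⟨p, q⟩, hpq⟩
    change ιMapBifunctor K₁ S.X₂ F (ComplexShape.up ℤ) p q n hpq ≫
      (mapBifunctorMap (𝟙 K₁) S.g F (ComplexShape.up ℤ)).f n =
      (F.obj (K₁.X p)).map (S.g.f q) ≫ ιMapBifunctor K₁ S.X₃ F (ComplexShape.up ℤ) p q n hpq
    rw [ι_mapBifunctorMap]
    simp

/-- Exactness of the total complex in the first variable. -/
theorem shortExact_map₁ (K₂ : CochainComplex C₂ ℤ) (S : ShortComplex (CochainComplex C₁ ℤ))
    (h : ∀ p q : ℤ,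
      ((S.map (eval C₁ (ComplexShape.up ℤ) p)).map (F.flip.obj (K₂.X q))).ShortExact) :
    (S.map ((F.map₂CochainComplex).flip.obj K₂)).ShortExact := by
  apply shortExact_of_degreewise_shortExact
  intro n
  refine shortExact_of_cofans (ι := Idx n)
    (fun i => (S.map (eval C₁ (ComplexShape.up ℤ) i.1.1)).map (F.flip.obj (K₂.X i.1.2)))
    (fun i => h _ _) (isColimitTotCofan F S.X₁ K₂ n) (isColimitTotCofan F S.X₂ K₂ n)
    (isColimitTotCofan F S.X₃ K₂ n) _ _ ?_ ?_ _
  · rintro ⟨⟨p, q⟩, hpq⟩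
    change ιMapBifunctor S.X₁ K₂ F (ComplexShape.up ℤ) p q n hpq ≫
      (mapBifunctorMap S.f (𝟙 K₂) F (ComplexShape.up ℤ)).f n =
      (F.map (S.f.f p)).app (K₂.X q) ≫ ιMapBifunctor S.X₂ K₂ F (ComplexShape.up ℤ) p q n hpq
    rw [ι_mapBifunctorMap]
    simp
  · rintro ⟨⟨p, q⟩, hpq⟩
    change ιMapBifunctor S.X₂ K₂ F (ComplexShape.up ℤ) p q n hpq ≫
      (mapBifunctorMap S.g (𝟙 K₂) F (ComplexShape.up ℤ)).f n =
      (F.map (S.g.f p)).app (K₂.X q) ≫ ιMapBifunctor S.X₃ K₂ F (ComplexShape.up ℤ) p q n hpq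
    rw [ι_mapBifunctorMap]
    simp

end Tot

end Groth.Agent.Lib.Helper2.Tot
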