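import Mathlib
import Groth.Agent.Lib.Helper2.Tot.Exact
import Groth.Agent.Lib.Helper2.PResRel

/-!
# Abstract K-flat complexes for a bifunctor (helper2)

Let `F : C₁ ⥤ C₂ ⥤ D` be a bifunctor between abelian categories, additive in each variable,
with `D` satisfying countable AB4.  A complex `K₂` is `KFlat` when `Tot F(K₁, K₂)` is acyclic for
all acyclic `K₁`.

* `KFlat.of_homotopyEquiv`, `KFlat.shift`, `KFlat.of_shift`
* `kflat_X₁/X₂/X₃`: two out of three in short exact sequences which stay exact after `F(X, -)`.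
* `kflat_mappingCone`, `kflat_of_mappingCone_left/right`: two out of three for cones.
* `quasiIso_map₁_of_kflat`: `Tot F(-, K₂)` preserves quasi-isomorphisms if `K₂` is K-flat.
-/

set_option autoImplicit false
open CategoryTheory Limits HomologicalComplex

namespace Groth.Agent.Lib.Helper2.Tot

section Acyclic

variable {A : Type*} [Category A] [Abelian A]

lemma quasiIso_f_of_acyclic_X₃ {S : ShortComplex (CochainComplex A ℤ)} (hS : S.ShortExact)
    (h : S.X₃.Acyclic) : QuasiIso S.f := by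
  rw [quasiIso_iff]
  intro n
  rw [quasiIsoAt_iff_isIso_homologyMap]
  have hz : ∀ m, IsZero (S.X₃.homology m) :=
    fun m => (S.X₃.exactAt_iff_isZero_homology m).1 (h m)
  haveI : Mono (homologyMap S.f n) :=
    (hS.homology_exact₁ (n - 1) n (by simp)).mono_g ((hz _).eq_of_src _ _)
  haveI : Epi (homologyMap S.f n) := (hS.homology_exact₂ n).epi_f ((hz _).eq_of_tgt _ _)
  exact isIso_of_mono_of_epi _

lemma quasiIso_of_acyclic {K L : CochainComplex A ℤ} (f : K ⟶ L) (hK : K.Acyclic)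
    (hL : L.Acyclic) : QuasiIso f := by
  rw [quasiIso_iff]
  intro n
  exact (quasiIsoAt_iff_exactAt f n (hK n)).2 (hL n)

lemma acyclic_of_quasiIso {K L : CochainComplex A ℤ} (f : K ⟶ L) [QuasiIso f] (hK : K.Acyclic) :
    L.Acyclic := fun n => (quasiIsoAt_iff_exactAt f n (hK n)).1 inferInstance

lemma acyclic_of_quasiIso' {K L : CochainComplex A ℤ} (f : K ⟶ L) [QuasiIso f] (hL : L.Acyclic) :
    K.Acyclic := fun n => (quasiIsoAt_iff_exactAt' f n (hL n)).1 inferInstance

lemma acyclic_of_iso {K L : CochainComplex A ℤ} (e : K ≅ L) (hK : K.Acyclic) : L.Acyclic :=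
  acyclic_of_quasiIso e.hom hK

lemma acyclic_X₃' {S : ShortComplex (CochainComplex A ℤ)} (hS : S.ShortExact)
    (h₁ : S.X₁.Acyclic) (h₂ : S.X₂.Acyclic) : S.X₃.Acyclic :=
  hS.acyclic_X₃ (quasiIso_of_acyclic S.f h₁ h₂)

lemma acyclic_X₁' {S : ShortComplex (CochainComplex A ℤ)} (hS : S.ShortExact)
    (h₂ : S.X₂.Acyclic) (h₃ : S.X₃.Acyclic) : S.X₁.Acyclic :=
  hS.acyclic_X₁ (quasiIso_of_acyclic S.g h₂ h₃)

lemma acyclic_shift {K : CochainComplex A ℤ} (hK : K.Acyclic) (n : ℤ) :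
    (K⟦n⟧).Acyclic := by
  intro i
  rw [exactAt_iff_isZero_homology]
  have e := ((homologyFunctor A (ComplexShape.up ℤ) 0).shiftIso n i (n + i) rfl).app K
  exact IsZero.of_iso ((exactAt_iff_isZero_homology _ _).1 (hK (n + i))) e

lemma acyclic_of_shift {K : CochainComplex A ℤ} (n : ℤ) (hK : (K⟦n⟧).Acyclic) :
    K.Acyclic := by
  intro i
  rw [exactAt_iff_isZero_homology]
  have e := ((homologyFunctor A (ComplexShape.up ℤ) 0).shiftIso n (i - n) i (by omega)).app K
  exact IsZero.of_iso ((exactAt_iff_isZero_homology _ _).1 (hK (i - n))) e.symm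

end Acyclic

section KFlat

variable {C₁ C₂ D : Type*} [Category C₁] [Category C₂] [Category D]
  [Abelian C₁] [Abelian C₂] [Abelian D]
  (F : C₁ ⥤ C₂ ⥤ D) [F.Additive] [∀ X₁, (F.obj X₁).Additive]
  [∀ (K₁ : CochainComplex C₁ ℤ) (K₂ : CochainComplex C₂ ℤ),
    HasMapBifunctor K₁ K₂ F (ComplexShape.up ℤ)]

/-- `K₂` is K-flat (with respect to `F`): `Tot F(K₁, K₂)` is acyclic for all acyclic `K₁`. -/
def KFlat (K₂ : CochainComplex C₂ ℤ) : Prop :=
  ∀ K₁ : CochainComplex C₁ ℤ, K₁.Acyclic → (mapBifunctor K₁ K₂ F (ComplexShape.up ℤ)).Acyclic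

/-- `Tot F(K₁, -)` sends homotopy equivalences to homotopy equivalences. -/
noncomputable def map₂HomotopyEquiv (K₁ : CochainComplex C₁ ℤ) {K L : CochainComplex C₂ ℤ}
    (e : HomotopyEquiv K L) :
    HomotopyEquiv (mapBifunctor K₁ K F (ComplexShape.up ℤ))
      (mapBifunctor K₁ L F (ComplexShape.up ℤ)) where
  hom := ((F.map₂CochainComplex).obj K₁).map e.hom
  inv := ((F.map₂CochainComplex).obj K₁).map e.inv
  homotopyHomInvId :=
    (Homotopy.ofEq (((F.map₂CochainComplex).obj K₁).map_comp e.hom e.inv).symm).trans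
      ((mapBifunctorMapHomotopy₂ (𝟙 K₁) e.homotopyHomInvId F (ComplexShape.up ℤ)).trans
        (Homotopy.ofEq (((F.map₂CochainComplex).obj K₁).map_id K)))
  homotopyInvHomId :=
    (Homotopy.ofEq (((F.map₂CochainComplex).obj K₁).map_comp e.inv e.hom).symm).trans
      ((mapBifunctorMapHomotopy₂ (𝟙 K₁) e.homotopyInvHomId F (ComplexShape.up ℤ)).trans
        (Homotopy.ofEq (((F.map₂CochainComplex).obj K₁).map_id L)))

/-- `Tot F(-, K₂)` sends homotopy equivalences to homotopy equivalences. -/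
noncomputable def map₁HomotopyEquiv (K₂ : CochainComplex C₂ ℤ) {K L : CochainComplex C₁ ℤ}
    (e : HomotopyEquiv K L) :
    HomotopyEquiv (mapBifunctor K K₂ F (ComplexShape.up ℤ))
      (mapBifunctor L K₂ F (ComplexShape.up ℤ)) where
  hom := ((F.map₂CochainComplex).flip.obj K₂).map e.hom
  inv := ((F.map₂CochainComplex).flip.obj K₂).map e.inv
  homotopyHomInvId :=
    (Homotopy.ofEq (((F.map₂CochainComplex).flip.obj K₂).map_comp e.hom e.inv).symm).trans
      ((mapBifunctorMapHomotopy₁ e.homotopyHomInvId (𝟙 K₂) F (ComplexShape.up ℤ)).trans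
        (Homotopy.ofEq (((F.map₂CochainComplex).flip.obj K₂).map_id K)))
  homotopyInvHomId :=
    (Homotopy.ofEq (((F.map₂CochainComplex).flip.obj K₂).map_comp e.inv e.hom).symm).trans
      ((mapBifunctorMapHomotopy₁ e.homotopyInvHomId (𝟙 K₂) F (ComplexShape.up ℤ)).trans
        (Homotopy.ofEq (((F.map₂CochainComplex).flip.obj K₂).map_id L)))

variable {F}

lemma KFlat.of_homotopyEquiv {K L : CochainComplex C₂ ℤ} (e : HomotopyEquiv K L)
    (hK : KFlat F K) : KFlat F L := fun K₁ h₁ => by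
  haveI := (map₂HomotopyEquiv F K₁ e).quasiIso_hom
  exact acyclic_of_quasiIso (map₂HomotopyEquiv F K₁ e).hom (hK K₁ h₁)

lemma KFlat.of_iso {K L : CochainComplex C₂ ℤ} (e : K ≅ L) (hK : KFlat F K) : KFlat F L :=
  fun K₁ h₁ => acyclic_of_iso (((F.map₂CochainComplex).obj K₁).mapIso e) (hK K₁ h₁)

lemma KFlat.shift {K : CochainComplex C₂ ℤ} (hK : KFlat F K) (n : ℤ) : KFlat F (K⟦n⟧) :=
  fun K₁ h₁ => acyclic_of_iso (CochainComplex.mapBifunctorShift₂Iso K₁ K F n).symm
    (acyclic_shift (hK K₁ h₁) n)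

lemma KFlat.of_shift {K : CochainComplex C₂ ℤ} (n : ℤ) (hK : KFlat F (K⟦n⟧)) : KFlat F K :=
  fun K₁ h₁ => acyclic_of_shift n
    (acyclic_of_iso (CochainComplex.mapBifunctorShift₂Iso K₁ K F n) (hK K₁ h₁))

variable [HasCountableCoproducts D] [CountableAB4 D]

section SES

variable (S : ShortComplex (CochainComplex C₂ ℤ))
  (h : ∀ (X : C₁) (q : ℤ), ((S.map (eval C₂ (ComplexShape.up ℤ) q)).map (F.obj X)).ShortExact)

include h

lemma kflat_X₃ (h₁ : KFlat F S.X₁) (h₂ : KFlat F S.X₂) : KFlat F S.X₃ := fun K₁ hK₁ =>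
  acyclic_X₃' (shortExact_map₂ F K₁ S (fun _ q => h _ q)) (h₁ K₁ hK₁) (h₂ K₁ hK₁)

lemma kflat_X₂ (h₁ : KFlat F S.X₁) (h₃ : KFlat F S.X₃) : KFlat F S.X₂ := fun K₁ hK₁ =>
  (shortExact_map₂ F K₁ S (fun _ q => h _ q)).acyclic_X₂ (h₁ K₁ hK₁) (h₃ K₁ hK₁)

lemma kflat_X₁ (h₂ : KFlat F S.X₂) (h₃ : KFlat F S.X₃) : KFlat F S.X₁ := fun K₁ hK₁ =>
  acyclic_X₁' (shortExact_map₂ F K₁ S (fun _ q => h _ q)) (h₂ K₁ hK₁) (h₃ K₁ hK₁)

end SES

section Cone

open CochainComplex

variable {K L : CochainComplex C₂ ℤ} (φ : K ⟶ L)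

omit [∀ (K₁ : CochainComplex C₁ ℤ) (K₂ : CochainComplex C₂ ℤ),
  HasMapBifunctor K₁ K₂ F (ComplexShape.up ℤ)] [HasCountableCoproducts D] [CountableAB4 D] in
lemma shortExact_triangleRotate (X : C₁) (q : ℤ) :
    (((mappingCone.triangleRotateShortComplex φ).map (eval C₂ (ComplexShape.up ℤ) q)).map
      (F.obj X)).ShortExact :=
  ((mappingCone.triangleRotateShortComplexSplitting φ q).map (F.obj X)).shortExact

lemma kflat_mappingCone (hK : KFlat F K) (hL : KFlat F L) : KFlat F (mappingCone φ) :=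
  kflat_X₂ (mappingCone.triangleRotateShortComplex φ) (shortExact_triangleRotate φ) hL
    (hK.shift 1)

lemma kflat_of_mappingCone_left (hK : KFlat F K) (hc : KFlat F (mappingCone φ)) : KFlat F L :=
  kflat_X₁ (mappingCone.triangleRotateShortComplex φ) (shortExact_triangleRotate φ) hc
    (hK.shift 1)

lemma kflat_of_mappingCone_right (hL : KFlat F L) (hc : KFlat F (mappingCone φ)) : KFlat F K :=
  KFlat.of_shift 1
    (kflat_X₃ (mappingCone.triangleRotateShortComplex φ) (shortExact_triangleRotate φ) hL hc)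

end Cone

section QuasiIso

open PRes

/-- If `K₂` is K-flat, `Tot F(-, K₂)` preserves quasi-isomorphisms. -/
theorem quasiIso_map₁_of_kflat {K₂ : CochainComplex C₂ ℤ} (hK₂ : KFlat F K₂)
    {K L : CochainComplex C₁ ℤ} (φ : K ⟶ L) [QuasiIso φ] :
    QuasiIso (mapBifunctorMap φ (𝟙 K₂) F (ComplexShape.up ℤ)) := by
  let G := (F.map₂CochainComplex).flip.obj K₂
  change QuasiIso (G.map φ)
  have hfac : G.map φ = G.map (cylι φ) ≫ G.map cylπ := by
    rw [← G.map_comp, cylι_π]
  haveI h2 : QuasiIso (G.map (cylπ : cyl (R := K) (K' := L) ⟶ L)) :=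
    (map₁HomotopyEquiv F K₂ (cylHomotopyEquiv (R := K) (K' := L))).quasiIso_hom
  -- the short exact sequence `K → cyl → coker`
  haveI : QuasiIso (cylι φ) := by
    have : QuasiIso (cylι φ ≫ (cylπ : cyl (R := K) (K' := L) ⟶ L)) := by
      rw [cylι_π]; infer_instance
    exact quasiIso_of_comp_right (cylι φ) (cylπ : cyl (R := K) (K' := L) ⟶ L)
  haveI : ∀ n, Mono ((cylι φ).f n) := fun n =>
    mono_of_mono_fac (cylι_f_retraction φ n)
  haveI : Mono (cylι φ) := HomologicalComplex.mono_of_mono_f _ inferInstance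
  let S : ShortComplex (CochainComplex C₁ ℤ) :=
    ShortComplex.mk (cylι φ) (cokernel.π (cylι φ)) (cokernel.condition _)
  have hS : S.ShortExact :=
    ShortComplex.ShortExact.mk' (ShortComplex.exact_cokernel (cylι φ)) inferInstance
      (inferInstanceAs (Epi (cokernel.π (cylι φ))))
  have hac : S.X₃.Acyclic := hS.acyclic_X₃ (inferInstanceAs (QuasiIso (cylι φ)))
  have hsp : ∀ (p q : ℤ),
      ((S.map (eval C₁ (ComplexShape.up ℤ) p)).map (F.flip.obj (K₂.X q))).ShortExact := by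
    intro p q
    have hSp : (S.map (eval C₁ (ComplexShape.up ℤ) p)).ShortExact := hS.map_of_exact _
    haveI := hSp.epi_g
    let sp : (S.map (eval C₁ (ComplexShape.up ℤ) p)).Splitting :=
      ShortComplex.Splitting.ofExactOfRetraction _ hSp.exact _ (cylι_f_retraction φ p) hSp.epi_g
    haveI : (F.flip.obj (K₂.X q)).Additive := { }
    exact (sp.map (F.flip.obj (K₂.X q))).shortExact
  have hses := shortExact_map₁ F K₂ S hsp
  haveI h1 : QuasiIso (G.map (cylι φ)) :=
    quasiIso_f_of_acyclic_X₃ hses (hK₂ _ hac)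
  rw [hfac]
  infer_instance

end QuasiIso

end KFlat

end Groth.Agent.Lib.Helper2.Tot
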