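import Mathlib
import Groth.Prelude.Def_DCoh4
import Groth.Prelude.Def_KFlatSite
import Groth.Agent.Lib.Helper2.Tot.KFlat
import Groth.Agent.Lib.Helper2.FreeSum

/-!
# K-flat complexes on a scheme: glue with the abstract theory (helper2)
-/

set_option autoImplicit false
universe u
open CategoryTheory Limits HomologicalComplex AlgebraicGeometry

namespace Groth.Agent.Lib.Helper2.Tot.DC

variable (X : Scheme.{u})

instance hasCountableCoproducts : HasCountableCoproducts X.Modules :=
  ⟨fun _ _ => inferInstance⟩

instance countableAB4 : CountableAB4 X.Modules :=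
  haveI : IsGrothendieckAbelian.{u} X.Modules :=
    inferInstanceAs (IsGrothendieckAbelian.{u} (ModSite.Mod X.sheaf))
  haveI : HasExactColimitsOfShape ℕ X.Modules :=
    Groth.Agent.Lib.Helper2.FreeSum.hasExactColimitsOfShape_nat
  haveI : HasFiniteBiproducts X.Modules := HasFiniteBiproducts.of_hasFiniteProducts
  CountableAB4.of_countableAB5 _

variable {X}

lemma acyclic_iff {A : Type*} [Category A] [Abelian A] (K : CochainComplex A ℤ) :
    K.Acyclic ↔ ∀ i : ℤ, IsZero (K.homology i) :=
  forall_congr' (fun i => exactAt_iff_isZero_homology K i)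

lemma isKFlat_iff (K : CochainComplex X.Modules ℤ) :
    DCoh.IsKFlat K ↔ KFlat (DCoh.tensorBi (X := X)) K := by
  constructor
  · intro h K₁ h₁
    exact (acyclic_iff _).2 (h K₁ ((acyclic_iff _).1 h₁))
  · intro h K₁ h₁
    exact (acyclic_iff _).1 (h K₁ ((acyclic_iff _).2 h₁))

end Groth.Agent.Lib.Helper2.Tot.DC
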