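import Mathlib
import Groth.Agent.Lib.Helper2.Tot.KFlat
import Groth.Agent.Lib.Helper2.KInj.FilteredQuasiIso

/-!
# Total complexes of bifunctors and colimits (helper2)

* `preservesColimitsOfShape_of_cofans`: a functor which is pointwise a coproduct of functors
  preserving colimits of shape `J` preserves colimits of shape `J`.
* `preservesColimitsOfShape_map₂`, `preservesColimitsOfShape_map₁`: the total complex functor
  preserves colimits of shape `J` in each variable if `F` does.
* `acyclic_of_isColimit`: a colimit of acyclic complexes is acyclic if colimits are exact.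
* `kflat_of_isColimit`: a colimit of K-flat complexes is K-flat.
-/

set_option autoImplicit false
open CategoryTheory Limits HomologicalComplex

namespace Groth.Agent.Lib.Helper2.Tot

section Core

variable {E D : Type*} [Category E] [Category D] {J : Type*} [Category J] {ι : Type*}
  (G : ι → E ⥤ D) (T : E ⥤ D) (inj : ∀ i, G i ⟶ T)
  (hT : ∀ e : E, IsColimit (Cofan.mk (T.obj e) (fun i => (inj i).app e)))
  [∀ i, PreservesColimitsOfShape J (G i)]

include hT in
theorem preservesColimitsOfShape_of_cofans : PreservesColimitsOfShape J T where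
  preservesColimit {K} := ⟨fun {c} hc => ⟨by
    let hG : ∀ i, IsColimit ((G i).mapCocone c) := fun i => isColimitOfPreserves (G i) hc
    let sC : ∀ (s : Cocone (K ⋙ T)) (i : ι), Cocone (K ⋙ G i) := fun s i =>
      { pt := s.pt
        ι :=
          { app := fun j => (inj i).app (K.obj j) ≫ s.ι.app j
            naturality := fun j j' f => by
              have h1 := s.w f
              have h2 := (inj i).naturality (K.map f)
              dsimp at h1 h2 ⊢
              rw [Category.comp_id, ← h1, ← Category.assoc, h2, Category.assoc] } }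
    have hfac : ∀ (s : Cocone (K ⋙ T)) (i : ι) (j : J),
        (G i).map (c.ι.app j) ≫ (hG i).desc (sC s i) = (inj i).app (K.obj j) ≫ s.ι.app j :=
      fun s i j => (hG i).fac (sC s i) j
    exact
      { desc := fun s => Cofan.IsColimit.desc (hT c.pt) (fun i => (hG i).desc (sC s i))
        fac := fun s j => by
          apply Cofan.IsColimit.hom_ext (hT (K.obj j))
          intro i
          have h2 := (inj i).naturality (c.ι.app j)
          have h3 := Cofan.IsColimit.fac (hT c.pt) (fun i => (hG i).desc (sC s i)) i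
          dsimp at h2 h3 ⊢
          rw [← Category.assoc, ← h2, Category.assoc, h3, hfac]
        uniq := fun s m hm => by
          apply Cofan.IsColimit.hom_ext (hT c.pt)
          intro i
          have h3 := Cofan.IsColimit.fac (hT c.pt) (fun i => (hG i).desc (sC s i)) i
          dsimp at h3 ⊢
          rw [h3]
          apply (hG i).hom_ext
          intro j
          have h2 := (inj i).naturality (c.ι.app j)
          have h4 := hm j
          dsimp at h2 h4 ⊢
          rw [hfac, ← Category.assoc, h2, Category.assoc, h4] }⟩⟩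

end Core

section Tot

variable {C₁ C₂ D : Type*} [Category C₁] [Category C₂] [Category D]
  [HasZeroMorphisms C₁] [HasZeroMorphisms C₂] [Preadditive D]
  (F : C₁ ⥤ C₂ ⥤ D) [F.PreservesZeroMorphisms] [∀ X₁, (F.obj X₁).PreservesZeroMorphisms]
  [∀ (K₁ : CochainComplex C₁ ℤ) (K₂ : CochainComplex C₂ ℤ),
    HasMapBifunctor K₁ K₂ F (ComplexShape.up ℤ)]
  {J : Type*} [Category J]

/-- The summand functors of `K₂ ↦ Tot F(K₁, K₂)^n`. -/
abbrev summand₂ (K₁ : CochainComplex C₁ ℤ) (n : ℤ) (i : Idx n) : CochainComplex C₂ ℤ ⥤ D :=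
  eval C₂ (ComplexShape.up ℤ) i.1.2 ⋙ F.obj (K₁.X i.1.1)

/-- The inclusions of the summands, as natural transformations. -/
noncomputable def summandInj₂ (K₁ : CochainComplex C₁ ℤ) (n : ℤ) (i : Idx n) :
    summand₂ F K₁ n i ⟶ (F.map₂CochainComplex).obj K₁ ⋙ eval D (ComplexShape.up ℤ) n where
  app K₂ := ιMapBifunctor K₁ K₂ F (ComplexShape.up ℤ) i.1.1 i.1.2 n i.2
  naturality K₂ L₂ f := by
    change (F.obj (K₁.X i.1.1)).map (f.f i.1.2) ≫ _ =
      ιMapBifunctor K₁ K₂ F (ComplexShape.up ℤ) i.1.1 i.1.2 n i.2 ≫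
        (mapBifunctorMap (𝟙 K₁) f F (ComplexShape.up ℤ)).f n
    rw [ι_mapBifunctorMap]
    simp

theorem preservesColimitsOfShape_map₂ [HasColimitsOfShape J C₂]
    [∀ X : C₁, PreservesColimitsOfShape J (F.obj X)] (K₁ : CochainComplex C₁ ℤ) :
    PreservesColimitsOfShape J ((F.map₂CochainComplex).obj K₁) := by
  apply preservesColimitsOfShape_of_eval
  intro n
  refine preservesColimitsOfShape_of_cofans (summand₂ F K₁ n) _ (summandInj₂ F K₁ n) ?_
  intro K₂
  refine IsColimit.ofIsoColimit (GradedObject.isColimitCofanMapObj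
    (((F.mapBifunctorHomologicalComplex (ComplexShape.up ℤ) (ComplexShape.up ℤ)).obj K₁).obj
      K₂).toGradedObject
    (ComplexShape.π (ComplexShape.up ℤ) (ComplexShape.up ℤ) (ComplexShape.up ℤ)) n) ?_
  exact Cocone.ext (Iso.refl _) (by rintro ⟨⟨⟨p, q⟩, h⟩⟩; exact Category.comp_id _)

/-- The summand functors of `K₁ ↦ Tot F(K₁, K₂)^n`. -/
abbrev summand₁ (K₂ : CochainComplex C₂ ℤ) (n : ℤ) (i : Idx n) : CochainComplex C₁ ℤ ⥤ D :=
  eval C₁ (ComplexShape.up ℤ) i.1.1 ⋙ F.flip.obj (K₂.X i.1.2)

/-- The inclusions of the summands, as natural transformations. -/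
noncomputable def summandInj₁ (K₂ : CochainComplex C₂ ℤ) (n : ℤ) (i : Idx n) :
    summand₁ F K₂ n i ⟶ (F.map₂CochainComplex).flip.obj K₂ ⋙ eval D (ComplexShape.up ℤ) n where
  app K₁ := ιMapBifunctor K₁ K₂ F (ComplexShape.up ℤ) i.1.1 i.1.2 n i.2
  naturality K₁ L₁ f := by
    change (F.map (f.f i.1.1)).app (K₂.X i.1.2) ≫ _ =
      ιMapBifunctor K₁ K₂ F (ComplexShape.up ℤ) i.1.1 i.1.2 n i.2 ≫
        (mapBifunctorMap f (𝟙 K₂) F (ComplexShape.up ℤ)).f n
    rw [ι_mapBifunctorMap]
    simp

theorem preservesColimitsOfShape_map₁ [HasColimitsOfShape J C₁]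
    [∀ Y : C₂, PreservesColimitsOfShape J (F.flip.obj Y)] (K₂ : CochainComplex C₂ ℤ) :
    PreservesColimitsOfShape J ((F.map₂CochainComplex).flip.obj K₂) := by
  apply preservesColimitsOfShape_of_eval
  intro n
  refine preservesColimitsOfShape_of_cofans (summand₁ F K₂ n) _ (summandInj₁ F K₂ n) ?_
  intro K₁
  refine IsColimit.ofIsoColimit (GradedObject.isColimitCofanMapObj
    (((F.mapBifunctorHomologicalComplex (ComplexShape.up ℤ) (ComplexShape.up ℤ)).obj K₁).obj
      K₂).toGradedObject
    (ComplexShape.π (ComplexShape.up ℤ) (ComplexShape.up ℤ) (ComplexShape.up ℤ)) n) ?_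
  exact Cocone.ext (Iso.refl _) (by rintro ⟨⟨⟨p, q⟩, h⟩⟩; exact Category.comp_id _)

end Tot

section Acyclic

variable {A : Type*} [Category A] [Abelian A] {J : Type*} [Category J]
  [HasColimitsOfShape J A] [HasExactColimitsOfShape J A]

/-- A colimit of acyclic complexes is acyclic when colimits of that shape are exact. -/
theorem acyclic_of_isColimit {K : J ⥤ CochainComplex A ℤ} {c : Cocone K} (hc : IsColimit c)
    (h : ∀ j, (K.obj j).Acyclic) : c.pt.Acyclic := by
  have hq : QuasiIso (0 : c.pt ⟶ c.pt) :=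
    KInj.quasiIso_colimMap (0 : K ⟶ K) (fun t => quasiIso_of_acyclic _ (h t) (h t)) hc hc 0
      (fun t => by simp)
  intro n
  rw [exactAt_iff_isZero_homology]
  have hi : IsIso (homologyMap (0 : c.pt ⟶ c.pt) n) := by
    rw [← quasiIsoAt_iff_isIso_homologyMap]
    infer_instance
  rw [IsZero.iff_id_eq_zero]
  have h0 : homologyMap (0 : c.pt ⟶ c.pt) n = 0 := by simp
  rw [← cancel_mono (homologyMap (0 : c.pt ⟶ c.pt) n), h0]
  simp

end Acyclic

section KFlat

variable {C₁ C₂ D : Type*} [Category C₁] [Category C₂] [Category D]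
  [Abelian C₁] [Abelian C₂] [Abelian D]
  {F : C₁ ⥤ C₂ ⥤ D} [F.Additive] [∀ X₁, (F.obj X₁).Additive]
  [∀ (K₁ : CochainComplex C₁ ℤ) (K₂ : CochainComplex C₂ ℤ),
    HasMapBifunctor K₁ K₂ F (ComplexShape.up ℤ)]
  {J : Type*} [Category J] [HasColimitsOfShape J C₂] [HasColimitsOfShape J D]
  [HasExactColimitsOfShape J D] [∀ X : C₁, PreservesColimitsOfShape J (F.obj X)]

/-- A colimit of K-flat complexes is K-flat (for shapes of exact colimits preserved by `F`). -/
theorem kflat_of_isColimit {K : J ⥤ CochainComplex C₂ ℤ} {c : Cocone K} (hc : IsColimit c)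
    (hK : ∀ j, KFlat F (K.obj j)) : KFlat F c.pt := fun K₁ h₁ => by
  haveI := preservesColimitsOfShape_map₂ (J := J) F K₁
  exact acyclic_of_isColimit (isColimitOfPreserves ((F.map₂CochainComplex).obj K₁) hc)
    (fun j => hK j K₁ h₁)

end KFlat

end Groth.Agent.Lib.Helper2.Tot
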