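import Mathlib
import Groth.Agent.Lib.Helper2.Tot.Colim
import Groth.Agent.Lib.Helper2.PResColim

/-!
# Bounded above complexes with flat terms are K-flat (helper2)

Abstract version: `F : C₁ ⥤ C₂ ⥤ D`, `K₂` strictly `≤ b` such that `F(-, K₂^q)` is exact for all
`q`; `F(-, Y)` commutes with sequential colimits, which are exact in `D`.  Then `K₂` is K-flat.
-/

set_option autoImplicit false
open CategoryTheory Limits HomologicalComplex

namespace Groth.Agent.Lib.Helper2.Tot

section TwoTerm

variable {A : Type*} [Category A] [Abelian A]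

/-- An acyclic complex concentrated in two consecutive degrees is contractible. -/
noncomputable def twoTermContraction (Q : CochainComplex A ℤ) (a : ℤ)
    (hlo : ∀ i, i < a → IsZero (Q.X i)) (hhi : ∀ i, a + 1 < i → IsZero (Q.X i))
    (hQ : Q.Acyclic) : Homotopy (𝟙 Q) 0 := by
  haveI hm : Mono (Q.d a (a + 1)) := by
    have h := (Q.exactAt_iff' (a - 1) a (a + 1) (by simp) (by simp)).1 (hQ a)
    exact h.mono_g ((hlo (a - 1) (by omega)).eq_of_src _ _)
  haveI he : Epi (Q.d a (a + 1)) := by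
    have h := (Q.exactAt_iff' a (a + 1) (a + 1 + 1) (by simp) (by simp)).1 (hQ (a + 1))
    exact h.epi_f ((hhi (a + 1 + 1) (by omega)).eq_of_tgt _ _)
  haveI : IsIso (Q.d a (a + 1)) := isIso_of_mono_of_epi _
  exact
    { hom := fun i j => if h : i = a + 1 ∧ j = a then
        eqToHom (by rw [h.1]) ≫ inv (Q.d a (a + 1)) ≫ eqToHom (by rw [h.2]) else 0
      zero := fun i j hij => by
        rw [dif_neg]
        rintro ⟨h1, h2⟩
        exact hij (by subst h1 h2; simp)
      comm := fun i => by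
        by_cases h1 : i = a
        · subst h1
          rw [dNext_eq _ (show (ComplexShape.up ℤ).Rel i (i + 1) by simp),
            prevD_eq _ (show (ComplexShape.up ℤ).Rel (i - 1) i by simp)]
          rw [dif_pos ⟨rfl, rfl⟩, dif_neg (by omega)]
          simp
        · by_cases h2 : i = a + 1
          · subst h2
            rw [dNext_eq _ (show (ComplexShape.up ℤ).Rel (a + 1) (a + 1 + 1) by simp),
              prevD_eq _ (show (ComplexShape.up ℤ).Rel a (a + 1) by simp)]
            rw [dif_neg (by omega), dif_pos ⟨rfl, rfl⟩]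
            simp
          · have hz : IsZero (Q.X i) := by
              by_cases h3 : i < a
              · exact hlo i h3
              · exact hhi i (by omega)
            exact hz.eq_of_src _ _ }

end TwoTerm

section Main

variable {C₁ C₂ D : Type*} [Category C₁] [Category C₂] [Category D]
  [Abelian C₁] [Abelian C₂] [Abelian D]
  {F : C₁ ⥤ C₂ ⥤ D} [F.Additive] [∀ X₁, (F.obj X₁).Additive]
  [∀ (K₁ : CochainComplex C₁ ℤ) (K₂ : CochainComplex C₂ ℤ),
    HasMapBifunctor K₁ K₂ F (ComplexShape.up ℤ)]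

/-- `Tot F(Q, K₂)` is acyclic if `Q` is contractible. -/
lemma acyclic_tot_of_contractible {Q : CochainComplex C₁ ℤ} (h : Homotopy (𝟙 Q) 0)
    (K₂ : CochainComplex C₂ ℤ) : (mapBifunctor Q K₂ F (ComplexShape.up ℤ)).Acyclic := by
  let G := (F.map₂CochainComplex).flip.obj K₂
  have H : Homotopy (𝟙 (mapBifunctor Q K₂ F (ComplexShape.up ℤ))) 0 :=
    (Homotopy.ofEq (G.map_id Q).symm).trans
      ((mapBifunctorMapHomotopy₁ h (𝟙 K₂) F (ComplexShape.up ℤ)).trans
        (Homotopy.ofEq (G.map_zero _ _)))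
  intro n
  rw [exactAt_iff_isZero_homology, IsZero.iff_id_eq_zero]
  have h1 := H.homologyMap_eq n
  rw [homologyMap_id, homologyMap_zero] at h1
  exact h1

lemma isZero_tot_X (L : CochainComplex C₁ ℤ) (K₂ : CochainComplex C₂ ℤ) (a b : ℤ)
    [L.IsStrictlyLE a] [K₂.IsStrictlyLE b] (n : ℤ) (hn : a + b < n) :
    IsZero ((mapBifunctor L K₂ F (ComplexShape.up ℤ)).X n) := by
  rw [IsZero.iff_id_eq_zero]
  apply mapBifunctor.hom_ext
  intro p q hpq
  have hpq' : p + q = n := hpq
  by_cases hp : a < p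
  · have hz : IsZero ((F.obj (L.X p)).obj (K₂.X q)) := by
      have h0 : IsZero (F.obj (L.X p)) := F.map_isZero (L.isZero_of_isStrictlyLE a p hp)
      exact (Functor.isZero_iff _).1 h0 _
    exact hz.eq_of_src _ _
  · have hz : IsZero ((F.obj (L.X p)).obj (K₂.X q)) :=
      (F.obj (L.X p)).map_isZero (K₂.isZero_of_isStrictlyLE b q (by omega))
    exact hz.eq_of_src _ _

variable [HasCountableCoproducts D] [CountableAB4 D]

/-- The key induction. -/
lemma exactAt_tot_of_bounded (K₂ : CochainComplex C₂ ℤ) (b : ℤ) [K₂.IsStrictlyLE b]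
    (hfl : ∀ q : ℤ, PreservesFiniteLimits (F.flip.obj (K₂.X q)))
    (hfc : ∀ q : ℤ, PreservesFiniteColimits (F.flip.obj (K₂.X q))) :
    ∀ (k : ℕ) (a : ℤ) (L : CochainComplex C₁ ℤ), L.IsStrictlyLE a → L.Acyclic →
      ∀ n : ℤ, a + b - k < n → (mapBifunctor L K₂ F (ComplexShape.up ℤ)).ExactAt n := by
  intro k
  induction k with
  | zero =>
    intro a L hL _ n hn
    rw [exactAt_iff_isZero_homology]
    have hz := isZero_tot_X (F := F) L K₂ a b n (by simpa using hn)
    exact ShortComplex.isZero_homology_of_isZero_X₂ _ hz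
  | succ k ih =>
    intro a L hL hac n hn
    let L' := L.truncLE (a - 1)
    let S : ShortComplex (CochainComplex C₁ ℤ) :=
      ShortComplex.mk (L.ιTruncLE (a - 1)) (cokernel.π (L.ιTruncLE (a - 1)))
        (cokernel.condition _)
    have hS : S.ShortExact :=
      ShortComplex.ShortExact.mk' (ShortComplex.exact_cokernel (L.ιTruncLE (a - 1)))
        (inferInstanceAs (Mono (HomologicalComplex.ιTruncLE L
          (ComplexShape.embeddingUpIntLE (a - 1)))))
        (inferInstanceAs (Epi (cokernel.π (L.ιTruncLE (a - 1)))))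
    have hL' : (L.truncLE (a - 1)).Acyclic :=
      HomologicalComplex.Acyclic.truncLE hac (ComplexShape.embeddingUpIntLE (a - 1))
    have hQ : S.X₃.Acyclic := acyclic_X₃' hS hL' hac
    -- `Q` is concentrated in degrees `a - 1`, `a`
    have hQlo : ∀ i, i < a - 1 → IsZero (S.X₃.X i) := by
      intro i hi
      have hSi : (S.map (eval C₁ (ComplexShape.up ℤ) i)).ShortExact := hS.map_of_exact _
      haveI : IsIso (S.map (eval C₁ (ComplexShape.up ℤ) i)).f :=
        PRes.isIso_ιTruncLE_f L (a - 1) i hi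
      have h0 : (S.map (eval C₁ (ComplexShape.up ℤ) i)).g = 0 := by
        rw [← cancel_epi (S.map (eval C₁ (ComplexShape.up ℤ) i)).f, ShortComplex.zero, comp_zero]
      haveI := hSi.epi_g
      have hz : IsZero (S.map (eval C₁ (ComplexShape.up ℤ) i)).X₃ := IsZero.of_epi_eq_zero _ h0
      exact hz
    have hQhi : ∀ i, a - 1 + 1 < i → IsZero (S.X₃.X i) := by
      intro i hi
      have hSi : (S.map (eval C₁ (ComplexShape.up ℤ) i)).ShortExact := hS.map_of_exact _
      haveI := hSi.epi_g
      have hz : IsZero (S.map (eval C₁ (ComplexShape.up ℤ) i)).X₃ :=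
        IsZero.of_epi (S.map (eval C₁ (ComplexShape.up ℤ) i)).g
          (L.isZero_of_isStrictlyLE a i (by omega))
      exact hz
    have hQac : (mapBifunctor S.X₃ K₂ F (ComplexShape.up ℤ)).Acyclic :=
      acyclic_tot_of_contractible (twoTermContraction S.X₃ (a - 1) hQlo hQhi hQ) K₂
    have hsp : ∀ (p q : ℤ),
        ((S.map (eval C₁ (ComplexShape.up ℤ) p)).map (F.flip.obj (K₂.X q))).ShortExact := by
      intro p q
      haveI := hfl q
      haveI := hfc q
      exact (hS.map_of_exact (eval C₁ (ComplexShape.up ℤ) p)).map_of_exact _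
    have hses := shortExact_map₁ F K₂ S hsp
    have h1 : (mapBifunctor (L.truncLE (a - 1)) K₂ F (ComplexShape.up ℤ)).ExactAt n :=
      ih (a - 1) (L.truncLE (a - 1)) inferInstance hL' n (by push_cast at hn; omega)
    exact hses.exactAt_X₂ n h1 (hQac n)

lemma acyclic_tot_of_bounded (K₂ : CochainComplex C₂ ℤ) (b : ℤ) [K₂.IsStrictlyLE b]
    (hfl : ∀ q : ℤ, PreservesFiniteLimits (F.flip.obj (K₂.X q)))
    (hfc : ∀ q : ℤ, PreservesFiniteColimits (F.flip.obj (K₂.X q)))
    (a : ℤ) (L : CochainComplex C₁ ℤ) [L.IsStrictlyLE a] (hL : L.Acyclic) :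
    (mapBifunctor L K₂ F (ComplexShape.up ℤ)).Acyclic := by
  intro n
  refine exactAt_tot_of_bounded K₂ b hfl hfc (a + b - n + 1).toNat a L inferInstance hL n ?_
  have := Int.self_le_toNat (a + b - n + 1)
  omega

variable [HasColimitsOfShape ℕ C₁] [HasColimitsOfShape ℕ D] [HasExactColimitsOfShape ℕ D]
  [∀ Y : C₂, PreservesColimitsOfShape ℕ (F.flip.obj Y)]

/-- A bounded above complex with `F`-flat terms is K-flat. -/
theorem kflat_of_isStrictlyLE (K₂ : CochainComplex C₂ ℤ) (b : ℤ) [K₂.IsStrictlyLE b]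
    (hfl : ∀ q : ℤ, PreservesFiniteLimits (F.flip.obj (K₂.X q)))
    (hfc : ∀ q : ℤ, PreservesFiniteColimits (F.flip.obj (K₂.X q))) : KFlat F K₂ := by
  intro K₁ h₁
  haveI := preservesColimitsOfShape_map₁ (J := ℕ) F K₂
  let m : ℕ → ℤ := fun n => (n : ℤ)
  have hm : ∀ n, m n ≤ m (n + 1) := fun n => by simp [m]
  have hm' : ∀ i : ℤ, ∃ N : ℕ, ∀ n, N ≤ n → i < m n := fun i =>
    ⟨(i + 1).toNat, fun n hn => by
      have := Int.self_le_toNat (i + 1)
      have : ((i + 1).toNat : ℤ) ≤ (n : ℤ) := by exact_mod_cast hn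
      simp only [m]
      omega⟩
  have hc := isColimitOfPreserves ((F.map₂CochainComplex).flip.obj K₂)
    (PRes.isColimitTruncCocone K₁ m hm hm')
  refine acyclic_of_isColimit hc (fun n => ?_)
  have hobj : (PRes.truncSystem K₁ m hm).obj n = K₁.truncLE (m n) := rfl
  change (mapBifunctor ((PRes.truncSystem K₁ m hm).obj n) K₂ F (ComplexShape.up ℤ)).Acyclic
  rw [hobj]
  exact acyclic_tot_of_bounded K₂ b hfl hfc (m n) (K₁.truncLE (m n))
    (HomologicalComplex.Acyclic.truncLE h₁ (ComplexShape.embeddingUpIntLE (m n)))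

end Main

end Groth.Agent.Lib.Helper2.Tot
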