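import Mathlib
import Groth.Prelude.Def_KFlatSite
import Groth.Agent.Lib.Helper2.Tot.KFlat
import Groth.Agent.Lib.Helper2.FreeSum
import Groth.Agent.Lib.Helper13.ModSiteFlatSES

/-!
# K-flat complexes on a ringed site: glue with the abstract theory (helper2)
-/

set_option autoImplicit false
universe u
open CategoryTheory Limits HomologicalComplex

namespace Groth.Agent.Lib.Helper2.Tot.MS

variable {C : Type u} [SmallCategory C] {J : GrothendieckTopology C} (O : Sheaf J CommRingCat.{u})

instance hasCountableCoproducts : HasCountableCoproducts (ModSite.Mod O) :=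
  ⟨fun _ _ => inferInstance⟩

instance countableAB4 : CountableAB4 (ModSite.Mod O) :=
  haveI : HasExactColimitsOfShape ℕ (ModSite.Mod O) :=
    Groth.Agent.Lib.Helper2.FreeSum.hasExactColimitsOfShape_nat
  haveI : HasFiniteBiproducts (ModSite.Mod O) := HasFiniteBiproducts.of_hasFiniteProducts
  CountableAB4.of_countableAB5 _

variable {O}

lemma acyclic_iff {A : Type*} [Category A] [Abelian A] (K : CochainComplex A ℤ) :
    K.Acyclic ↔ ∀ i : ℤ, IsZero (K.homology i) :=
  forall_congr' (fun i => exactAt_iff_isZero_homology K i)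

lemma isKFlat_iff (K : CochainComplex (ModSite.Mod O) ℤ) :
    ModSite.IsKFlat K ↔ KFlat (ModSite.tensorBi O) K := by
  constructor
  · intro h K₁ h₁
    exact (acyclic_iff _).2 (h K₁ ((acyclic_iff _).1 h₁))
  · intro h K₁ h₁
    exact (acyclic_iff _).1 (h K₁ ((acyclic_iff _).2 h₁))

/-- Tensoring with any module preserves short exact sequences with flat third term. -/
lemma shortExact_of_flat (S : ShortComplex (CochainComplex (ModSite.Mod O) ℤ)) (hS : S.ShortExact)
    (h3 : ∀ n : ℤ, ModSite.IsFlat (S.X₃.X n)) (X : ModSite.Mod O) (q : ℤ) :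
    ((S.map (eval (ModSite.Mod O) (ComplexShape.up ℤ) q)).map
      ((ModSite.tensorBi O).obj X)).ShortExact :=
  Groth.Agent.Lib.Helper13.ModSiteFlatSES.tensor_shortExact_of_isFlat'
    (S.map (eval (ModSite.Mod O) (ComplexShape.up ℤ) q))
    (hS.map_of_exact (eval (ModSite.Mod O) (ComplexShape.up ℤ) q)) (h3 q) X

end Groth.Agent.Lib.Helper2.Tot.MS
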