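import Mathlib
import Groth.Agent.Lib.Helper2.Tot.ModSite
import Groth.Agent.Lib.Helper2.Tot.Colim
import Groth.Agent.Lib.Helper13.ModSiteFlat

/-!
# K-flat complexes on a ringed site and sequential colimits (helper2)
-/

set_option autoImplicit false
universe u
open CategoryTheory Limits HomologicalComplex

namespace Groth.Agent.Lib.Helper2.Tot.MS

variable {C : Type u} [SmallCategory C] {J : GrothendieckTopology C} (O : Sheaf J CommRingCat.{u})

instance preservesColimitsOfShape_nat_obj (X : ModSite.Mod O) :
    PreservesColimitsOfShape ℕ ((ModSite.tensorBi O).obj X) := by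
  haveI : PreservesColimitsOfSize.{0, 0} ((ModSite.tensorBi O).obj X) :=
    preservesSmallestColimits_of_preservesColimits.{u, u} _
  infer_instance

instance preservesColimitsOfShape_nat_flip_obj (X : ModSite.Mod O) :
    PreservesColimitsOfShape ℕ ((ModSite.tensorBi O).flip.obj X) := by
  haveI : PreservesColimitsOfSize.{0, 0} ((ModSite.tensorBi O).flip.obj X) :=
    preservesSmallestColimits_of_preservesColimits.{u, u} _
  infer_instance

instance hasExactColimitsOfShape_nat : HasExactColimitsOfShape ℕ (ModSite.Mod O) :=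
  Groth.Agent.Lib.Helper2.FreeSum.hasExactColimitsOfShape_nat

variable {O}

theorem isKFlat_of_isColimit_nat {K : ℕ ⥤ CochainComplex (ModSite.Mod O) ℤ} {c : Cocone K}
    (hc : IsColimit c) (hK : ∀ n, ModSite.IsKFlat (K.obj n)) : ModSite.IsKFlat c.pt :=
  (isKFlat_iff _).2 (kflat_of_isColimit hc (fun n => (isKFlat_iff _).1 (hK n)))

end Groth.Agent.Lib.Helper2.Tot.MS
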