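import Mathlib
import Groth.Agent.Lib.Helper2.Tot.ModSiteColim
import Groth.Agent.Lib.Helper2.Tot.Bounded
import Groth.Agent.Lib.Helper13.ModSiteFreeOn
import Groth.Agent.Lib.Helper13.ModSiteFlatGen

/-!
# K-flat complexes on a ringed site: bounded above complexes and flatness of colimits (helper2)
-/

set_option autoImplicit false
universe u
open CategoryTheory Limits HomologicalComplex

namespace Groth.Agent.Lib.Helper2.Tot.MS

variable {C : Type u} [SmallCategory C] {J : GrothendieckTopology C} {O : Sheaf J CommRingCat.{u}}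

open Groth.Agent.Lib.Helper13 in
/-- Sequential colimits of flat modules are flat. -/
theorem isFlat_of_isColimit_nat (D : ℕ ⥤ ModSite.Mod O) (hD : ∀ i, ModSite.IsFlat (D.obj i))
    (c : Cocone D) (hc : IsColimit c) : ModSite.IsFlat c.pt := by
  rw [ModSiteFlat.isFlat_iff]
  have hc' : IsColimit ((ModSite.tensorBi O).flip.mapCocone c) := by
    apply evaluationJointlyReflectsColimits
    intro G
    exact isColimitOfPreserves ((ModSite.tensorBi O).obj G) hc
  exact (ObjectProperty.preservesFiniteLimits (J := ModSite.Mod O)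
    (C := ModSite.Mod O)).prop_of_isColimit hc' (fun i => (hD i).1)

open Groth.Agent.Lib.Helper13 in
/-- Coproducts of modules `j_! O_U` are flat. -/
theorem isFlat_of_iso_sigma_freeOn (M : ModSite.Mod O) {ι : Type u} (U : ι → C)
    (e : M ≅ ∐ fun j => ModSite.freeOn O (U j)) : ModSite.IsFlat M :=
  ModSiteFlatGen.isFlat_of_iso e.symm
    (ModSiteFlat.isFlat_of_isColimit (Discrete.functor (fun j => ModSite.freeOn O (U j)))
      (fun i => ModSiteFreeOn.isFlat_freeOn (O := O) (U i.as)) _
      (colimit.isColimit (Discrete.functor (fun j => ModSite.freeOn O (U j)))))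

/-- A bounded above complex with flat terms is K-flat. -/
theorem isKFlat_of_isStrictlyLE (K : CochainComplex (ModSite.Mod O) ℤ) (b : ℤ)
    [K.IsStrictlyLE b] (hflat : ∀ n : ℤ, ModSite.IsFlat (K.X n)) : ModSite.IsKFlat K :=
  (isKFlat_iff _).2 (kflat_of_isStrictlyLE K b (fun q => (hflat q).1) (fun q => (hflat q).2))

end Groth.Agent.Lib.Helper2.Tot.MS
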