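import Mathlib
import Groth.Agent.Lib.Helper2.Tot.KFlat

/-!
# K-flatness in the first variable via the flipped bifunctor (helper2)

* `kflat_flip_iff`: `L` is K-flat for `F.flip` iff `Tot F(L, K₂)` is acyclic for all acyclic `K₂`.
* `quasiIso_map₂_of_kflat_flip`: if `L` is K-flat for `F.flip`, then `Tot F(L, -)` preserves
  quasi-isomorphisms.
* `quasiIso_map₂_of_kflat`: if every complex has a resolution by a complex which is K-flat for
  `F.flip`, a quasi-isomorphism between K-flat complexes stays a quasi-isomorphism after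
  `Tot F(L, -)` for any `L`.
-/

set_option autoImplicit false
open CategoryTheory Limits HomologicalComplex

namespace Groth.Agent.Lib.Helper2.Tot

variable {C₁ C₂ D : Type*} [Category C₁] [Category C₂] [Category D]
  [Abelian C₁] [Abelian C₂] [Abelian D]
  (F : C₁ ⥤ C₂ ⥤ D) [F.Additive] [∀ X₁, (F.obj X₁).Additive]
  [∀ (K₁ : CochainComplex C₁ ℤ) (K₂ : CochainComplex C₂ ℤ),
    HasMapBifunctor K₁ K₂ F (ComplexShape.up ℤ)]

instance additive_flip : F.flip.Additive := { }

instance additive_flip_obj (Y : C₂) : (F.flip.obj Y).Additive := { }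

instance hasMapBifunctor_flip (K₂ : CochainComplex C₂ ℤ) (K₁ : CochainComplex C₁ ℤ) :
    HasMapBifunctor K₂ K₁ F.flip (ComplexShape.up ℤ) := inferInstance

variable {F}

lemma kflat_flip_iff (L : CochainComplex C₁ ℤ) :
    KFlat F.flip L ↔ ∀ K₂ : CochainComplex C₂ ℤ, K₂.Acyclic →
      (mapBifunctor L K₂ F (ComplexShape.up ℤ)).Acyclic := by
  constructor
  · intro h K₂ h₂
    exact acyclic_of_iso (mapBifunctorFlipIso L K₂ F (ComplexShape.up ℤ)) (h K₂ h₂)
  · intro h K₂ h₂
    exact acyclic_of_iso (mapBifunctorFlipIso L K₂ F (ComplexShape.up ℤ)).symm (h K₂ h₂)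

variable [HasCountableCoproducts D] [CountableAB4 D]

/-- If `L` is K-flat for `F.flip`, then `Tot F(L, -)` preserves quasi-isomorphisms. -/
theorem quasiIso_map₂_of_kflat_flip {L : CochainComplex C₁ ℤ} (hL : KFlat F.flip L)
    {K K' : CochainComplex C₂ ℤ} (φ : K ⟶ K') [QuasiIso φ] :
    QuasiIso (mapBifunctorMap (𝟙 L) φ F (ComplexShape.up ℤ)) := by
  haveI h1 : QuasiIso (mapBifunctorMap φ (𝟙 L) F.flip (ComplexShape.up ℤ)) :=
    quasiIso_map₁_of_kflat hL φ
  have hnat := mapBifunctorFlipIso_hom_naturality (𝟙 L) φ F (ComplexShape.up ℤ)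
  have h2 : mapBifunctorMap (𝟙 L) φ F (ComplexShape.up ℤ) =
      (mapBifunctorFlipIso L K F (ComplexShape.up ℤ)).inv ≫
        mapBifunctorMap φ (𝟙 L) F.flip (ComplexShape.up ℤ) ≫
          (mapBifunctorFlipIso L K' F (ComplexShape.up ℤ)).hom := by
    rw [hnat, Iso.inv_hom_id_assoc]
  rw [h2]
  infer_instance

/-- A quasi-isomorphism between K-flat complexes stays a quasi-isomorphism after `Tot F(L, -)`,
provided resolutions which are K-flat in the first variable exist. -/
theorem quasiIso_map₂_of_kflat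
    (hres : ∀ L : CochainComplex C₁ ℤ, ∃ (L' : CochainComplex C₁ ℤ) (r : L' ⟶ L),
      KFlat F.flip L' ∧ QuasiIso r)
    {P Q : CochainComplex C₂ ℤ} (hP : KFlat F P) (hQ : KFlat F Q) (α : P ⟶ Q) [QuasiIso α]
    (L : CochainComplex C₁ ℤ) :
    QuasiIso (mapBifunctorMap (𝟙 L) α F (ComplexShape.up ℤ)) := by
  obtain ⟨L', r, hL', hr⟩ := hres L
  haveI ha : QuasiIso (mapBifunctorMap (𝟙 L') α F (ComplexShape.up ℤ)) :=
    quasiIso_map₂_of_kflat_flip hL' α
  haveI hbP : QuasiIso (mapBifunctorMap r (𝟙 P) F (ComplexShape.up ℤ)) :=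
    quasiIso_map₁_of_kflat hP r
  haveI hbQ : QuasiIso (mapBifunctorMap r (𝟙 Q) F (ComplexShape.up ℤ)) :=
    quasiIso_map₁_of_kflat hQ r
  have hsq : mapBifunctorMap r (𝟙 P) F (ComplexShape.up ℤ) ≫
      mapBifunctorMap (𝟙 L) α F (ComplexShape.up ℤ) =
      mapBifunctorMap (𝟙 L') α F (ComplexShape.up ℤ) ≫
        mapBifunctorMap r (𝟙 Q) F (ComplexShape.up ℤ) :=
    ((F.map₂CochainComplex).map r).naturality α |>.symm
  haveI : QuasiIso (mapBifunctorMap r (𝟙 P) F (ComplexShape.up ℤ) ≫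
      mapBifunctorMap (𝟙 L) α F (ComplexShape.up ℤ)) := by
    rw [hsq]
    infer_instance
  exact quasiIso_of_comp_left (mapBifunctorMap r (𝟙 P) F (ComplexShape.up ℤ))
    (mapBifunctorMap (𝟙 L) α F (ComplexShape.up ℤ))

end Groth.Agent.Lib.Helper2.Tot
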