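import Mathlib
import Groth.Agent.Lib.Helper2.Tot.ModSiteRes
import Groth.Agent.Lib.Helper2.Tot.Symm
import Groth.Agent.S9078

/-!
# Resolutions K-flat in the first variable on a ringed site (helper2)
-/

set_option autoImplicit false
universe u
open CategoryTheory Limits HomologicalComplex

namespace Groth.Agent.Lib.Helper2.Tot.MS

variable {C : Type u} [SmallCategory C] {J : GrothendieckTopology C} {O : Sheaf J CommRingCat.{u}}

open Groth.Agent.Lib.Helper13 in
/-- A bounded above complex with flat terms is K-flat in the first variable. -/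
theorem kflat_flip_of_isStrictlyLE (K : CochainComplex (ModSite.Mod O) ℤ) (b : ℤ)
    [K.IsStrictlyLE b] (hflat : ∀ n : ℤ, ModSite.IsFlat (K.X n)) :
    KFlat (ModSite.tensorBi O).flip K := by
  haveI : ∀ Y : ModSite.Mod O, PreservesColimitsOfShape ℕ ((ModSite.tensorBi O).flip.flip.obj Y) :=
    fun Y => (inferInstance : PreservesColimitsOfShape ℕ ((ModSite.tensorBi O).obj Y))
  refine kflat_of_isStrictlyLE (F := (ModSite.tensorBi O).flip) K b (fun q => ?_) (fun q => ?_)
  · exact ModSiteFlatSES.preservesFiniteLimits_obj_of_isFlat (hflat q)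
  · exact (inferInstance : PreservesFiniteColimits ((ModSite.tensorBi O).obj (K.X q)))

/-- Every complex has a resolution which is K-flat in both variables, with flat terms, termwise
epimorphic. -/
theorem exists_resolution (G : CochainComplex (ModSite.Mod O) ℤ) :
    ∃ (K : CochainComplex (ModSite.Mod O) ℤ) (q : K ⟶ G), KFlat (ModSite.tensorBi O) K ∧
      KFlat (ModSite.tensorBi O).flip K ∧ (∀ n : ℤ, ModSite.IsFlat (K.X n)) ∧ QuasiIso q ∧
      ∀ n : ℤ, Epi (q.f n) := by
  obtain ⟨Kc, π, _, hπ, hbd, hterm, _, c, hc, hcq⟩ := Groth.Agent.S9078.result O G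
  have hflat : ∀ (n : ℕ) (i : ℤ), ModSite.IsFlat ((Kc.obj n).X i) := by
    intro n i
    obtain ⟨ι, U, ⟨e⟩⟩ := hterm n i
    exact isFlat_of_iso_sigma_freeOn _ U e
  refine ⟨colimit Kc, c, ?_, ?_, ?_, hcq, ?_⟩
  · apply kflat_of_isColimit (colimit.isColimit Kc)
    intro n
    obtain ⟨b, hb⟩ := hbd n
    exact (isKFlat_iff _).1 (isKFlat_of_isStrictlyLE (Kc.obj n) b (hflat n))
  · apply kflat_of_isColimit (F := (ModSite.tensorBi O).flip) (colimit.isColimit Kc)
    intro n
    obtain ⟨b, hb⟩ := hbd n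
    exact kflat_flip_of_isStrictlyLE (Kc.obj n) b (hflat n)
  · intro i
    exact isFlat_of_isColimit_nat
      (Kc ⋙ HomologicalComplex.eval _ _ i) (fun n => hflat n i) _
      (isColimitOfPreserves (HomologicalComplex.eval _ _ i) (colimit.isColimit Kc))
  · intro i
    have h := hc i.toNat
    haveI : IsIso ((G.ιTruncLE ((i.toNat : ℤ) + 1)).f i) :=
      Groth.Agent.Lib.Helper2.PRes.isIso_ιTruncLE_f G _ i (by
        have := Int.self_le_toNat i
        omega)
    haveI := (hπ i.toNat).2 i
    have h2 : Epi ((colimit.ι Kc i.toNat).f i ≫ c.f i) := by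
      rw [← HomologicalComplex.comp_f, h, HomologicalComplex.comp_f]
      infer_instance
    exact epi_of_epi ((colimit.ι Kc i.toNat).f i) (c.f i)

/-- A quasi-isomorphism between K-flat complexes stays a quasi-isomorphism after tensoring with
any complex. -/
theorem quasiIso_map₂ {P Q : CochainComplex (ModSite.Mod O) ℤ}
    (hP : KFlat (ModSite.tensorBi O) P) (hQ : KFlat (ModSite.tensorBi O) Q) (α : P ⟶ Q)
    [QuasiIso α] (L : CochainComplex (ModSite.Mod O) ℤ) :
    QuasiIso (mapBifunctorMap (𝟙 L) α (ModSite.tensorBi O) (ComplexShape.up ℤ)) :=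
  quasiIso_map₂_of_kflat (fun L => by
    obtain ⟨K, q, _, h2, _, h4, _⟩ := exists_resolution L
    exact ⟨K, q, h2, h4⟩) hP hQ α L

end Groth.Agent.Lib.Helper2.Tot.MS
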