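import Mathlib
import Groth.Agent.Lib.Helper2.Tot.Factor

/-!
# Factorization through a K-flat resolution, exposing the short exact sequence (helper2)

Same construction as `exists_factorization`, but the conclusion records the degreewise split short
exact sequence `K ⟶ N ⟶ M` with `M` K-flat.
-/

set_option autoImplicit false
open CategoryTheory Limits HomologicalComplex

namespace Groth.Agent.Lib.Helper2.Tot

variable {C₁ C₂ D : Type*} [Category C₁] [Category C₂] [Category D]
  [Abelian C₁] [Abelian C₂] [Abelian D]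
  {F : C₁ ⥤ C₂ ⥤ D} [F.Additive] [∀ X₁, (F.obj X₁).Additive]
  [∀ (K₁ : CochainComplex C₁ ℤ) (K₂ : CochainComplex C₂ ℤ),
    HasMapBifunctor K₁ K₂ F (ComplexShape.up ℤ)]
  [HasCountableCoproducts D] [CountableAB4 D]

open PRes in
theorem exists_factorization_ses (Pt : C₂ → Prop)
    (hPt : ∀ S : ShortComplex C₂, S.Splitting → Pt S.X₁ → Pt S.X₃ → Pt S.X₂)
    (hres : ∀ Q : CochainComplex C₂ ℤ, ∃ (M : CochainComplex C₂ ℤ) (r : M ⟶ Q),
      KFlat F M ∧ (∀ n, Pt (M.X n)) ∧ QuasiIso r)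
    {K L : CochainComplex C₂ ℤ} (a : K ⟶ L) (hK : KFlat F K) :
    ∃ (N M : CochainComplex C₂ ℤ) (b : K ⟶ N) (p : N ⟶ M) (w : b ≫ p = 0) (c : N ⟶ L),
      (ShortComplex.mk b p w).ShortExact ∧
      (∀ q : ℤ, Nonempty ((ShortComplex.mk b p w).map
        (eval C₂ (ComplexShape.up ℤ) q)).Splitting) ∧
      KFlat F N ∧ KFlat F M ∧ QuasiIso c ∧ b ≫ c = a ∧ (∀ n, Pt (M.X n)) ∧
      ((∀ n, Pt (K.X n)) → ∀ n, Pt (N.X n)) := by
  haveI : ∀ n, Mono ((cylι a).f n) := fun n => mono_of_mono_fac (cylι_f_retraction a n)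
  haveI : Mono (cylι a) := HomologicalComplex.mono_of_mono_f _ inferInstance
  let π := cokernel.π (cylι a)
  let S₀ : ShortComplex (CochainComplex C₂ ℤ) :=
    ShortComplex.mk (cylι a) π (cokernel.condition _)
  have hS₀ : S₀.ShortExact :=
    ShortComplex.ShortExact.mk' (ShortComplex.exact_cokernel (cylι a)) inferInstance
      (inferInstanceAs (Epi (cokernel.π (cylι a))))
  obtain ⟨M, r, hM, hMt, hr⟩ := hres (cokernel (cylι a))
  let b : K ⟶ pullback π r := pullback.lift (cylι a) 0 (by simp [π])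
  let S₁ : ShortComplex (CochainComplex C₂ ℤ) :=
    ShortComplex.mk b (pullback.snd π r) (pullback.lift_snd _ _ _)
  have hS₁ex : S₁.Exact := exact_pullback (cylι a) π (cokernel.condition _) hS₀.exact r
  haveI : Mono b := mono_of_mono_fac (pullback.lift_fst _ _ _)
  haveI : Epi π := inferInstanceAs (Epi (cokernel.π (cylι a)))
  haveI : Epi (pullback.snd π r) := Abelian.epi_pullback_of_epi_f π r
  have hS₁ : S₁.ShortExact := ShortComplex.ShortExact.mk' hS₁ex ‹Mono b› ‹Epi (pullback.snd π r)›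
  let φ : S₁ ⟶ S₀ :=
    { τ₁ := 𝟙 K
      τ₂ := pullback.fst π r
      τ₃ := r
      comm₁₂ := by
        change 𝟙 K ≫ cylι a = b ≫ pullback.fst π r
        rw [Category.id_comp, pullback.lift_fst]
      comm₂₃ := by
        change pullback.fst π r ≫ π = pullback.snd π r ≫ r
        exact pullback.condition }
  haveI hq : QuasiIso (pullback.fst π r) :=
    quasiIso_τ₂ φ hS₁ hS₀ (inferInstanceAs (QuasiIso (𝟙 K))) hr
  have hsplit : ∀ q : ℤ, (S₁.map (eval C₂ (ComplexShape.up ℤ) q)).Splitting := by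
    intro q
    have hSq : (S₁.map (eval C₂ (ComplexShape.up ℤ) q)).ShortExact := hS₁.map_of_exact _
    refine ShortComplex.Splitting.ofExactOfRetraction _ hSq.exact
      ((pullback.fst π r).f q ≫ (biprod.fst : cyl (R := K) (K' := L) ⟶ _).f q ≫
        (CochainComplex.mappingCone.snd (𝟙 K)).v q q (add_zero q)) ?_ hSq.epi_g
    change b.f q ≫ (pullback.fst π r).f q ≫ _ = 𝟙 _
    rw [← Category.assoc, ← HomologicalComplex.comp_f, pullback.lift_fst]
    exact cylι_f_retraction a q
  refine ⟨pullback π r, M, b, pullback.snd π r, pullback.lift_snd _ _ _,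
    pullback.fst π r ≫ cylπ, hS₁, fun q => ⟨hsplit q⟩, ?_, hM, inferInstance, ?_, hMt, ?_⟩
  · exact kflat_X₂ S₁ (fun X q => ((hsplit q).map (F.obj X)).shortExact) hK hM
  · rw [← Category.assoc, pullback.lift_fst, cylι_π]
  · intro hKt n
    exact hPt _ (hsplit n) (hKt n) (hMt n)

end Groth.Agent.Lib.Helper2.Tot
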