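import Mathlib
import Groth.Prelude.Def_DRing4
import Groth.Agent.Lib.Helper2.Tot.KFlat
import Groth.Agent.Lib.Helper2.FreeSum

/-!
# K-flat complexes of modules over a ring: glue with the abstract theory (helper2)
-/

set_option autoImplicit false
universe u
open CategoryTheory Limits HomologicalComplex MonoidalCategory

namespace Groth.Agent.Lib.Helper2.Tot.DR

variable (R : Type u) [CommRing R]

/-- The tensor bifunctor of `R`-modules. -/
abbrev T : ModuleCat.{u} R ⥤ ModuleCat.{u} R ⥤ ModuleCat.{u} R := curriedTensor (ModuleCat.{u} R)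

instance hasCountableCoproducts : HasCountableCoproducts (ModuleCat.{u} R) :=
  ⟨fun _ _ => inferInstance⟩

instance countableAB4 : CountableAB4 (ModuleCat.{u} R) :=
  haveI : HasExactColimitsOfShape ℕ (ModuleCat.{u} R) :=
    Groth.Agent.Lib.Helper2.FreeSum.hasExactColimitsOfShape_nat
  haveI : HasFiniteBiproducts (ModuleCat.{u} R) := HasFiniteBiproducts.of_hasFiniteProducts
  CountableAB4.of_countableAB5 _

instance hasMapBifunctor (K₁ K₂ : DRing.Cx R) :
    HasMapBifunctor K₁ K₂ (T R) (ComplexShape.up ℤ) :=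
  inferInstanceAs (HomologicalComplex.HasTensor K₁ K₂)

variable {R}

lemma acyclic_iff {A : Type*} [Category A] [Abelian A] (K : CochainComplex A ℤ) :
    K.Acyclic ↔ ∀ i : ℤ, IsZero (K.homology i) :=
  forall_congr' (fun i => exactAt_iff_isZero_homology K i)

lemma kflat_iff (K : DRing.Cx R) :
    (∀ L : DRing.Cx R, (∀ i : ℤ, IsZero (L.homology i)) → ∀ i : ℤ, IsZero ((L ⊗ K).homology i)) ↔
      KFlat (T R) K := by
  constructor
  · intro h K₁ h₁
    exact (acyclic_iff _).2 (h K₁ ((acyclic_iff _).1 h₁))
  · intro h K₁ h₁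
    exact (acyclic_iff _).1 (h K₁ ((acyclic_iff _).2 h₁))

/-- Tensoring with any module preserves short exact sequences with flat third term. -/
lemma shortExact_of_flat_module (S : ShortComplex (ModuleCat.{u} R)) (hS : S.ShortExact)
    (h3 : Module.Flat R S.X₃) (X : ModuleCat.{u} R) : (S.map ((T R).obj X)).ShortExact := by
  have hr := (Functor.preservesFiniteColimits_iff_forall_exact_map_and_epi ((T R).obj X)).1
    inferInstance S hS
  have hm : Mono (((T R).obj X).map S.f) := by
    rw [ModuleCat.mono_iff_injective]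
    exact LinearMap.lTensor_injective_of_exact_of_flat S.g.hom hS.moduleCat_surjective_g S.f.hom
      hS.moduleCat_injective_f ((ShortComplex.ShortExact.moduleCat_exact_iff_function_exact S).1 hS.exact) X
  exact ShortComplex.ShortExact.mk' hr.1 hm hr.2

lemma shortExact_of_flat (S : ShortComplex (DRing.Cx R)) (hS : S.ShortExact)
    (h3 : DRing.TermwiseFlat S.X₃) (X : ModuleCat.{u} R) (q : ℤ) :
    ((S.map (eval (ModuleCat.{u} R) (ComplexShape.up ℤ) q)).map ((T R).obj X)).ShortExact :=
  shortExact_of_flat_module (S.map (eval (ModuleCat.{u} R) (ComplexShape.up ℤ) q))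
    (hS.map_of_exact (eval (ModuleCat.{u} R) (ComplexShape.up ℤ) q)) (h3 q) X

end Groth.Agent.Lib.Helper2.Tot.DR
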