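import Mathlib
import Groth.Agent.Lib.Helper2.Tot.DRing
import Groth.Agent.Lib.Helper2.Tot.Bounded
import Groth.Agent.Lib.Helper2.PResColim

/-!
# K-flat resolutions of complexes of modules over a ring (helper2)
-/

set_option autoImplicit false
universe u
open CategoryTheory Limits HomologicalComplex MonoidalCategory

namespace Groth.Agent.Lib.Helper2.Tot.DR

variable {R : Type u} [CommRing R]

instance hasExactColimitsOfShape_nat : HasExactColimitsOfShape ℕ (ModuleCat.{u} R) :=
  Groth.Agent.Lib.Helper2.FreeSum.hasExactColimitsOfShape_nat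

instance preservesColimitsOfShape_flip (J : Type*) [Category J] (Y : ModuleCat.{u} R) :
    PreservesColimitsOfShape J ((T R).flip.obj Y) :=
  inferInstanceAs (PreservesColimitsOfShape J (tensorRight Y))

instance preservesColimitsOfShape_obj (J : Type*) [Category J] (Y : ModuleCat.{u} R) :
    PreservesColimitsOfShape J ((T R).obj Y) :=
  inferInstanceAs (PreservesColimitsOfShape J (tensorLeft Y))

/-- Sequential colimits of flat modules are flat. -/
theorem flat_of_isColimit_nat (D : ℕ ⥤ ModuleCat.{u} R) (hD : ∀ i, Module.Flat R (D.obj i))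
    (c : Cocone D) (hc : IsColimit c) : Module.Flat R c.pt := by
  rw [Module.Flat.iff_preservesFiniteLimits_tensorRight]
  have hc' : IsColimit ((T R).flip.mapCocone c) := by
    apply evaluationJointlyReflectsColimits
    intro G
    exact isColimitOfPreserves ((T R).obj G) hc
  exact (ObjectProperty.preservesFiniteLimits (J := ModuleCat.{u} R)
    (C := ModuleCat.{u} R)).prop_of_isColimit hc' (fun i => by
      haveI := hD i
      exact inferInstanceAs (PreservesFiniteLimits (tensorRight (D.obj i))))

/-- A bounded above complex with flat terms is K-flat. -/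
theorem kflat_of_isStrictlyLE (K : DRing.Cx R) (b : ℤ) [K.IsStrictlyLE b]
    (hflat : ∀ n : ℤ, Module.Flat R (K.X n)) : KFlat (T R) K := by
  refine Groth.Agent.Lib.Helper2.Tot.kflat_of_isStrictlyLE (F := T R) K b (fun q => ?_)
    (fun q => ?_)
  · haveI : Module.Flat R (K.X q) := hflat q
    exact inferInstanceAs (PreservesFiniteLimits (tensorRight (K.X q)))
  · exact inferInstanceAs (PreservesFiniteColimits (tensorRight (K.X q)))

lemma flat_of_projective (M : ModuleCat.{u} R) (h : Projective M) : Module.Flat R M := by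
  haveI : Module.Projective R M := (IsProjective.iff_projective M).2 h
  infer_instance

/-- K-flat resolutions with flat terms, termwise epimorphic. -/
theorem exists_kflat_resolution (M : DRing.Cx R) :
    ∃ (K : DRing.Cx R) (f : K ⟶ M), KFlat (T R) K ∧ (∀ i : ℤ, Module.Flat R (K.X i)) ∧
      QuasiIso f ∧ ∀ i : ℤ, Epi (f.f i) := by
  let P : ObjectProperty (ModuleCat.{u} R) := fun X => Projective X
  haveI : P.IsClosedUnderIsomorphisms := ⟨fun e h => Projective.of_iso e h⟩
  have hP0 : ∃ Z : ModuleCat.{u} R, IsZero Z ∧ P Z := by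
    obtain ⟨Z, hZ⟩ := (inferInstance : HasZeroObject (ModuleCat.{u} R)).zero
    exact ⟨Z, hZ, ⟨fun f e _ => ⟨0, hZ.eq_of_src _ _⟩⟩⟩
  have hPsum : ∀ X Y : ModuleCat.{u} R, P X → P Y → P (X ⊞ Y) := fun X Y hX hY => by
    haveI : Projective X := hX
    haveI : Projective Y := hY
    exact (inferInstance : Projective (X ⊞ Y))
  have hP : ∀ X : ModuleCat.{u} R, ∃ (Y : ModuleCat.{u} R) (π : Y ⟶ X), P Y ∧ Epi π := fun X =>
    ⟨Projective.over X, Projective.π X, Projective.projective_over X, inferInstance⟩
  obtain ⟨Kc, π, _, hπ, hbd, hterm, _, c, hc, hcq⟩ :=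
    Groth.Agent.Lib.Helper2.PRes.exists_system_colimit P M hP0 hPsum hP
      (fun n : ℕ => (n : ℤ) + 1) (fun n => by push_cast; lia)
      (fun i => ⟨i.toNat, fun n hn => by
        have := Int.self_le_toNat i
        have : (i.toNat : ℤ) ≤ (n : ℤ) := by exact_mod_cast hn
        lia⟩)
  have hflat : ∀ (n : ℕ) (i : ℤ), Module.Flat R ((Kc.obj n).X i) := fun n i =>
    flat_of_projective _ (hterm n i)
  refine ⟨colimit Kc, c, ?_, ?_, hcq, ?_⟩
  · apply kflat_of_isColimit (colimit.isColimit Kc)
    intro n
    obtain ⟨b, hb⟩ := hbd n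
    exact kflat_of_isStrictlyLE (Kc.obj n) b (hflat n)
  · intro i
    exact flat_of_isColimit_nat (Kc ⋙ HomologicalComplex.eval _ _ i) (fun n => hflat n i) _
      (isColimitOfPreserves (HomologicalComplex.eval _ _ i) (colimit.isColimit Kc))
  · intro i
    have h := hc i.toNat
    haveI : IsIso ((M.ιTruncLE ((i.toNat : ℤ) + 1)).f i) :=
      Groth.Agent.Lib.Helper2.PRes.isIso_ιTruncLE_f M _ i (by
        have := Int.self_le_toNat i
        omega)
    haveI := (hπ i.toNat).2 i
    have h2 : Epi ((colimit.ι Kc i.toNat).f i ≫ c.f i) := by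
      rw [← HomologicalComplex.comp_f, h, HomologicalComplex.comp_f]
      infer_instance
    exact epi_of_epi ((colimit.ι Kc i.toNat).f i) (c.f i)

end Groth.Agent.Lib.Helper2.Tot.DR
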