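import Mathlib
import Groth.Agent.Lib.Helper2.Tot.DRingRes
import Groth.Agent.Lib.Helper2.Tot.Symm

/-!
# Resolutions K-flat in both variables for complexes of modules over a ring (helper2)
-/

set_option autoImplicit false
universe u
open CategoryTheory Limits HomologicalComplex MonoidalCategory

namespace Groth.Agent.Lib.Helper2.Tot.DR

variable {R : Type u} [CommRing R]

/-- A bounded above complex with flat terms is K-flat in the first variable. -/
theorem kflat_flip_of_isStrictlyLE (K : DRing.Cx R) (b : ℤ) [K.IsStrictlyLE b]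
    (hflat : ∀ n : ℤ, Module.Flat R (K.X n)) : KFlat (T R).flip K := by
  haveI : ∀ Y : ModuleCat.{u} R, PreservesColimitsOfShape ℕ ((T R).flip.flip.obj Y) :=
    fun Y => (inferInstance : PreservesColimitsOfShape ℕ ((T R).obj Y))
  refine Groth.Agent.Lib.Helper2.Tot.kflat_of_isStrictlyLE (F := (T R).flip) K b (fun q => ?_)
    (fun q => ?_)
  · haveI : Module.Flat R (K.X q) := hflat q
    exact inferInstanceAs (PreservesFiniteLimits (tensorLeft (K.X q)))
  · exact inferInstanceAs (PreservesFiniteColimits (tensorLeft (K.X q)))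

/-- K-flat (in both variables) resolutions with flat terms, termwise epimorphic. -/
theorem exists_resolution (M : DRing.Cx R) :
    ∃ (K : DRing.Cx R) (f : K ⟶ M), KFlat (T R) K ∧ KFlat (T R).flip K ∧
      (∀ i : ℤ, Module.Flat R (K.X i)) ∧ QuasiIso f ∧ ∀ i : ℤ, Epi (f.f i) := by
  let P : ObjectProperty (ModuleCat.{u} R) := fun X => Projective X
  haveI : P.IsClosedUnderIsomorphisms := ⟨fun e h => Projective.of_iso e h⟩
  have hP0 : ∃ Z : ModuleCat.{u} R, IsZero Z ∧ P Z := by
    obtain ⟨Z, hZ⟩ := (inferInstance : HasZeroObject (ModuleCat.{u} R)).zero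
    exact ⟨Z, hZ, ⟨fun f e _ => ⟨0, hZ.eq_of_src _ _⟩⟩⟩
  have hPsum : ∀ X Y : ModuleCat.{u} R, P X → P Y → P (X ⊞ Y) := fun X Y hX hY => by
    haveI : Projective X := hX
    haveI : Projective Y := hY
    exact (inferInstance : Projective (X ⊞ Y))
  have hP : ∀ X : ModuleCat.{u} R, ∃ (Y : ModuleCat.{u} R) (π : Y ⟶ X), P Y ∧ Epi π := fun X =>
    ⟨Projective.over X, Projective.π X, Projective.projective_over X, inferInstance⟩
  obtain ⟨Kc, π, _, hπ, hbd, hterm, _, c, hc, hcq⟩ :=
    Groth.Agent.Lib.Helper2.PRes.exists_system_colimit P M hP0 hPsum hP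
      (fun n : ℕ => (n : ℤ) + 1) (fun n => by push_cast; lia)
      (fun i => ⟨i.toNat, fun n hn => by
        have := Int.self_le_toNat i
        have : (i.toNat : ℤ) ≤ (n : ℤ) := by exact_mod_cast hn
        lia⟩)
  have hflat : ∀ (n : ℕ) (i : ℤ), Module.Flat R ((Kc.obj n).X i) := fun n i =>
    flat_of_projective _ (hterm n i)
  refine ⟨colimit Kc, c, ?_, ?_, ?_, hcq, ?_⟩
  · apply kflat_of_isColimit (colimit.isColimit Kc)
    intro n
    obtain ⟨b, hb⟩ := hbd n
    exact kflat_of_isStrictlyLE (Kc.obj n) b (hflat n)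
  · apply kflat_of_isColimit (F := (T R).flip) (colimit.isColimit Kc)
    intro n
    obtain ⟨b, hb⟩ := hbd n
    exact kflat_flip_of_isStrictlyLE (Kc.obj n) b (hflat n)
  · intro i
    exact flat_of_isColimit_nat (Kc ⋙ HomologicalComplex.eval _ _ i) (fun n => hflat n i) _
      (isColimitOfPreserves (HomologicalComplex.eval _ _ i) (colimit.isColimit Kc))
  · intro i
    have h := hc i.toNat
    haveI : IsIso ((M.ιTruncLE ((i.toNat : ℤ) + 1)).f i) :=
      Groth.Agent.Lib.Helper2.PRes.isIso_ιTruncLE_f M _ i (by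
        have := Int.self_le_toNat i
        omega)
    haveI := (hπ i.toNat).2 i
    have h2 : Epi ((colimit.ι Kc i.toNat).f i ≫ c.f i) := by
      rw [← HomologicalComplex.comp_f, h, HomologicalComplex.comp_f]
      infer_instance
    exact epi_of_epi ((colimit.ι Kc i.toNat).f i) (c.f i)

/-- A quasi-isomorphism between K-flat complexes stays a quasi-isomorphism after tensoring with
any complex. -/
theorem quasiIso_map₂ {P Q : DRing.Cx R} (hP : KFlat (T R) P) (hQ : KFlat (T R) Q) (α : P ⟶ Q)
    [QuasiIso α] (L : DRing.Cx R) :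
    QuasiIso (mapBifunctorMap (𝟙 L) α (T R) (ComplexShape.up ℤ)) :=
  quasiIso_map₂_of_kflat (fun L => by
    obtain ⟨K, q, _, h2, _, h4, _⟩ := exists_resolution L
    exact ⟨K, q, h2, h4⟩) hP hQ α L

end Groth.Agent.Lib.Helper2.Tot.DR
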