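import Mathlib
import Groth.Agent.Lib.Helper2.Tot.DRing
import Groth.Agent.Lib.Helper13.ModSiteFlatGen

/-!
# Extensions of flat modules are flat (helper2)
-/

set_option autoImplicit false
universe u
open CategoryTheory Limits MonoidalCategory

namespace Groth.Agent.Lib.Helper2.Tot.DR

variable {R : Type u} [CommRing R]

open Groth.Agent.Lib.Helper13 in
/-- In a short exact sequence of modules with flat outer terms, the middle term is flat. -/
theorem flat_X₂ (S : ShortComplex (ModuleCat.{u} R)) (hS : S.ShortExact)
    (h₁ : Module.Flat R S.X₁) (h₃ : Module.Flat R S.X₃) : Module.Flat R S.X₂ := by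
  rw [Module.Flat.iff_preservesFiniteLimits_tensorRight]
  apply ModSiteFlatGen.preservesFiniteLimits_of_preservesMono
  intro G' G a ha
  let φ : S.map ((T R).obj G') ⟶ S.map ((T R).obj G) := S.mapNatTrans ((T R).map a)
  have e1 := shortExact_of_flat_module S hS h₃ G'
  have e2 := shortExact_of_flat_module S hS h₃ G
  have := e1.mono_f
  have := e2.mono_f
  have : Mono φ.τ₁ := inferInstanceAs (Mono ((tensorRight S.X₁).map a))
  have : Mono φ.τ₃ := inferInstanceAs (Mono ((tensorRight S.X₃).map a))
  exact ShortComplex.mono_τ₂_of_exact_of_mono φ e1.exact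

end Groth.Agent.Lib.Helper2.Tot.DR
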